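import Groth.Agent.IntMult.CohDTensor
import Groth.Agent.DerivedCoh.PCohDescent.Noetherian
import Groth.Agent.DerivedCoh.RelPerfectBC
import Groth.Agent.SpectralTopology.ConsModLocus

/-!
Coherent cohomology and derived pullback on locally Noetherian schemes.
-/

set_option autoImplicit false

universe u

open CategoryTheory CategoryTheory.Limits AlgebraicGeometry HomologicalComplex
open Groth.KTheory.Perf
open Groth.IntMult.CohDTensor (isCohD_of_iso isCohD_of_local isCohD_restrict)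

namespace Groth.HTor.FlatCoh

attribute [local instance] HasDerivedCategory.standard

variable {X Y : Scheme.{u}}

/-- bounded above objects with coherent cohomology are pseudo-coherent -/
theorem pcoh_of_isCohD [IsLocallyNoetherian X] {K : DCoh.D X} (hK : DCoh.IsCohD K) {b : ℤ}
    (hb : ∀ i, b < i → IsZero (DCoh.HD K i)) (m : ℤ) : DCoh.IsPseudoCoherentD m K := by
  refine Groth.DerivedCoh.PCoh.isPseudoCoherentD_of_local fun x => ?_
  obtain ⟨V, hV, hxV⟩ : ∃ V : X.Opens, IsAffineOpen V ∧ x ∈ V := by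
    obtain ⟨_, ⟨V, hV, rfl⟩, hxV, -⟩ :=
      X.isBasis_affineOpens.exists_subset_of_mem_open (Set.mem_univ x) isOpen_univ
    exact ⟨V, hV, hxV⟩
  haveI : IsAffine (V : Scheme.{u}) := hV
  refine ⟨V, hxV, ?_⟩
  haveI : IsNoetherian (V : Scheme.{u}) := { }
  have h := isCohD_restrict V.ι hK
  refine (Groth.DerivedCoh.PCohDescent.pcoh_iff_coherent _ (fun i => (h i).1) m).2
    ⟨fun i _ => h i, b, (DerivedCategory.isLE_iff _ b).2 fun i hi => ?_⟩
  exact ((Scheme.Modules.restrictFunctor V.ι).map_isZero (hb i hi)).of_iso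
    (nonempty_hdRd V.ι K i).some

/-- pseudo-coherent objects have coherent cohomology -/
theorem isCohD_of_pcoh [IsLocallyNoetherian X] {K : DCoh.D X}
    (hK : ∀ m : ℤ, DCoh.IsPseudoCoherentD m K) : DCoh.IsCohD K := by
  refine isCohD_of_local fun x => ?_
  obtain ⟨V, hV, hxV⟩ : ∃ V : X.Opens, IsAffineOpen V ∧ x ∈ V := by
    obtain ⟨_, ⟨V, hV, rfl⟩, hxV, -⟩ :=
      X.isBasis_affineOpens.exists_subset_of_mem_open (Set.mem_univ x) isOpen_univ
    exact ⟨V, hV, hxV⟩
  haveI : IsAffine (V : Scheme.{u}) := hV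
  refine ⟨V, hxV, fun i => ?_⟩
  haveI : IsNoetherian (V : Scheme.{u}) := { }
  have h := fun m => Groth.DerivedCoh.PCohDescent.pcoh_rd V.ι (hK m)
  exact ((Groth.DerivedCoh.PCohDescent.pcoh_iff_coherent _
    (Groth.DerivedCoh.RelPerfectBC.isQCohD_of_pc h) i).1 (h i)).1 i le_rfl

/-- derived pullback of bounded above objects with coherent cohomology -/
theorem isCohD_Lpull [IsLocallyNoetherian X] [IsLocallyNoetherian Y] (f : X ⟶ Y) [DCoh.HasLpull f]
    {K : DCoh.D Y} (hK : DCoh.IsCohD K) {b : ℤ} (hb : ∀ i, b < i → IsZero (DCoh.HD K i)) :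
    DCoh.IsCohD ((DCoh.Lpull f).obj K) ∧ ∀ i, b < i → IsZero (DCoh.HD ((DCoh.Lpull f).obj K) i) :=
  ⟨isCohD_of_pcoh fun m =>
      Groth.DerivedCoh.PCoh.isPseudoCoherentD_Lpull f (pcoh_of_isCohD hK hb m),
    fun i hi => Groth.DerivedCoh.PCoh.below_Lpull f (m := b + 1) (fun j hj => hb j (by omega)) i
      (by omega)⟩

end Groth.HTor.FlatCoh
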